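import Mathlib
import Groth.Prelude
import Groth.Agent.SiteBase.FreeMod

/-!
# The comparison map into higher direct images is locally surjective
-/

set_option linter.style.haveILetI false
set_option backward.isDefEq.respectTransparency false
set_option backward.isDefEq.respectTransparency.types false

universe u

open CategoryTheory Limits AlgebraicGeometry AlgebraicGeometry.Scheme.Modules TopologicalSpace
  Opposite

noncomputable section

namespace Groth.Agent.CohCmpLib

variable {X Y : Scheme.{u}}

theorem shortExact_toAbOn {S : ShortComplex X.Modules} (hS : S.ShortExact) (U : X.Opens) :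
    (S.map (CohCmp.toAbOn X U)).ShortExact := by
  haveI : PreservesFiniteColimits (SheafOfModules.toSheaf.{u} (U : Scheme.{u}).ringCatSheaf) :=
    SiteBase.preservesFiniteColimits_toSheaf _
  haveI : (Scheme.Modules.restrictFunctor U.ι).IsLeftAdjoint :=
    (Scheme.Modules.restrictAdjunction U.ι).isLeftAdjoint
  haveI : PreservesFiniteColimits (Scheme.Modules.restrictFunctor U.ι) := by
    haveI : PreservesColimitsOfSize.{0, 0} (Scheme.Modules.restrictFunctor U.ι) :=
      (Scheme.Modules.restrictAdjunction U.ι).leftAdjoint_preservesColimits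
    infer_instance
  haveI : (Scheme.Modules.restrictFunctor U.ι).IsRightAdjoint :=
    inferInstance
  haveI : PreservesFiniteLimits (Scheme.Modules.restrictFunctor U.ι) := by
    haveI : PreservesLimitsOfSize.{0, 0} (Scheme.Modules.restrictFunctor U.ι) :=
      (Adjunction.ofIsRightAdjoint _).rightAdjoint_preservesLimits
    infer_instance
  haveI : PreservesFiniteLimits (SheafOfModules.toSheaf.{u} (U : Scheme.{u}).ringCatSheaf) := by
    haveI : PreservesFiniteLimits (SheafOfModules.toSheaf.{u} (U : Scheme.{u}).ringCatSheaf ⋙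
        sheafToPresheaf _ _) :=
      comp_preservesFiniteLimits (SheafOfModules.forget.{u} (U : Scheme.{u}).ringCatSheaf)
        (PresheafOfModules.toPresheaf (U : Scheme.{u}).ringCatSheaf.obj)
    exact preservesFiniteLimits_of_reflects_of_preserves _ (sheafToPresheaf _ _)
  haveI : PreservesFiniteLimits (CohCmp.toAbOn X U) := comp_preservesFiniteLimits _ _
  haveI : PreservesFiniteColimits (CohCmp.toAbOn X U) := comp_preservesFiniteColimits _ _
  exact hS.map_of_exact _

instance enoughInjectives_of_resolutions [HasInjectiveResolutions X.Modules] :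
    EnoughInjectives X.Modules :=
  ⟨fun F => ⟨{ J := (injectiveResolution F).cocomplex.X 0
               f := (injectiveResolution F).ι.f 0 }⟩⟩

/-- An epimorphism of modules is surjective on sections locally. -/
theorem exists_local_preimage {M N : Y.Modules} (φ : M ⟶ N) [Epi φ] (V : Y.Opens)
    (t : N.presheaf.obj (op V)) (y : Y) (hy : y ∈ V) :
    ∃ (W : Y.Opens) (h : W ≤ V), y ∈ W ∧
      ∃ s, φ.app W s = N.presheaf.map (homOfLE h).op t := by
  haveI : PreservesFiniteColimits (SheafOfModules.toSheaf.{u} Y.ringCatSheaf) :=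
    SiteBase.preservesFiniteColimits_toSheaf _
  let ψ := (SheafOfModules.toSheaf.{u} Y.ringCatSheaf).map φ
  haveI : Epi ψ := inferInstance
  haveI : Sheaf.IsLocallySurjective ψ := (Sheaf.isLocallySurjective_iff_epi' _ ψ).2 inferInstance
  obtain ⟨W, g, ⟨s, hs⟩, hyW⟩ := Presheaf.imageSieve_mem (Opens.grothendieckTopology Y) ψ.hom t y hy
  exact ⟨W, leOfHom g, hyW, s, hs⟩

variable (f : X ⟶ Y) [HasInjectiveResolutions X.Modules] {Δ : RDer.DerivedLES (pushforward f)}
  (E : CohCmp.SectCmp f Δ)

/-- The sequence of an injective embedding. -/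
abbrev embSeq (F : X.Modules) : ShortComplex X.Modules :=
  ShortComplex.mk (Injective.ι F) (cokernel.π (Injective.ι F)) (cokernel.condition _)

theorem shortExact_embSeq (F : X.Modules) : (embSeq F).ShortExact :=
  ⟨ShortComplex.exact_cokernel _⟩

theorem epi_delta (F : X.Modules) (p : ℕ) :
    Epi (Δ.δ (embSeq F) (shortExact_embSeq F) p (p + 1) rfl) :=
  (Δ.exact₁ (embSeq F) (shortExact_embSeq F) p (p + 1) rfl).epi_f
    ((Functor.isZero_rightDerived_obj_injective_succ _ p (Injective.under F)).eq_of_tgt _ _)

include E in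
/-- The comparison is locally surjective. -/
theorem exists_eps_eq (F : X.Modules) (p : ℕ) (V : Y.Opens)
    (t : ((Coh.Rpush f p).obj F).presheaf.obj (op V)) (y : Y) (hy : y ∈ V) :
    ∃ (W : Y.Opens) (hWV : W ≤ V), y ∈ W ∧
      ∃ x : Coh.HHon X F (f ⁻¹ᵁ W) p,
        E.ε W F p x = ((Coh.Rpush f p).obj F).presheaf.map (homOfLE hWV).op t := by
  induction p generalizing F V with
  | zero =>
    haveI : PreservesFiniteLimits (pushforward f) := by
      haveI : PreservesLimitsOfSize.{0, 0} (pushforward f) :=
        (pullbackPushforwardAdjunction f).rightAdjoint_preservesLimits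
      infer_instance
    obtain ⟨W, h, hyW, s, hs⟩ := exists_local_preimage
      ((pushforward f).toRightDerivedZero.app F) V t y hy
    exact ⟨W, h, hyW, CohPull.sectH0 F (f ⁻¹ᵁ W) s, (E.zero W F s).trans hs⟩
  | succ p ih =>
    haveI := epi_delta f (Δ := Δ) F p
    obtain ⟨W, h, hyW, t', ht'⟩ :=
      exists_local_preimage (Δ.δ (embSeq F) (shortExact_embSeq F) p (p + 1) rfl) V t y hy
    obtain ⟨W', h', hyW', x', hx'⟩ := ih (embSeq F).X₃ W t' hyW
    refine ⟨W', h'.trans h, hyW',
      CohCmp.extδ (shortExact_toAbOn (shortExact_embSeq F) (f ⁻¹ᵁ W')) p x', ?_⟩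
    rw [E.delta W' (embSeq F) (shortExact_embSeq F) _ p x', hx']
    refine (NatTrans.naturality_apply
      (Δ.δ (embSeq F) (shortExact_embSeq F) p (p + 1) rfl).mapPresheaf (homOfLE h').op t').trans ?_
    show ((Coh.Rpush f (p + 1)).obj F).presheaf.map (homOfLE h').op _ = _
    erw [ht']
    rw [← ConcreteCategory.comp_apply, ← Functor.map_comp]
    rfl

end Groth.Agent.CohCmpLib
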