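import Mathlib
import Groth.Prelude
import Groth.Agent.CohCmpLib.Surj

/-!
# Restriction of cohomology classes commutes with connecting maps
-/

set_option linter.style.haveILetI false
set_option backward.isDefEq.respectTransparency false
set_option backward.isDefEq.respectTransparency.types false

universe u

open CategoryTheory Limits AlgebraicGeometry AlgebraicGeometry.Scheme.Modules TopologicalSpace
  Opposite CategoryTheory.Abelian

noncomputable section

namespace Groth.Agent.CohCmpLib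

variable {X Y : Scheme.{u}}

theorem theta_natural (g : X ⟶ Y) {M N : Y.Modules} (φ : M ⟶ N) :
    (CohPull.inv g.base).map ((SheafOfModules.toSheaf Y.ringCatSheaf).map φ) ≫ CohPull.theta g N =
      CohPull.theta g M ≫
        (SheafOfModules.toSheaf X.ringCatSheaf).map ((Scheme.Modules.pullback g).map φ) := by
  unfold CohPull.theta
  rw [← Adjunction.homEquiv_naturality_left_symm, ← Adjunction.homEquiv_naturality_right_symm]
  congr 1
  rw [← Functor.map_comp]
  erw [(Scheme.Modules.pullbackPushforwardAdjunction g).unit.naturality φ]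
  rw [Functor.map_comp]
  rfl

theorem pullOnIso_natural (g : X ⟶ Y) (U : Y.Opens) (U' : X.Opens) (h : U' ≤ g ⁻¹ᵁ U)
    {M N : Y.Modules} (φ : M ⟶ N) :
    (Scheme.Modules.pullback (g.resLE U U' h)).map
        ((Scheme.Modules.restrictFunctor U.ι).map φ) ≫ (CohPull.pullOnIso g U U' h N).hom =
      (CohPull.pullOnIso g U U' h M).hom ≫
        (Scheme.Modules.restrictFunctor U'.ι).map ((Scheme.Modules.pullback g).map φ) := by
  let T : Scheme.Modules.restrictFunctor U.ι ⋙ Scheme.Modules.pullback (g.resLE U U' h) ≅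
      Scheme.Modules.pullback g ⋙ Scheme.Modules.restrictFunctor U'.ι :=
    Functor.isoWhiskerRight (Scheme.Modules.restrictFunctorIsoPullback U.ι) _ ≪≫
      Scheme.Modules.pullbackComp (g.resLE U U' h) U.ι ≪≫
        Scheme.Modules.pullbackCongr (Scheme.Hom.resLE_comp_ι g h) ≪≫
          (Scheme.Modules.pullbackComp U'.ι g).symm ≪≫
            Functor.isoWhiskerLeft _ (Scheme.Modules.restrictFunctorIsoPullback U'.ι).symm
  exact T.hom.naturality φ

/-- The transformation `g⁻¹ ⟶ g^*` on underlying abelian sheaves. -/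
def thetaNat (g : X ⟶ Y) :
    SheafOfModules.toSheaf.{u} Y.ringCatSheaf ⋙ CohPull.inv g.base ⟶
      Scheme.Modules.pullback g ⋙ SheafOfModules.toSheaf.{u} X.ringCatSheaf where
  app M := CohPull.theta g M
  naturality _ _ φ := theta_natural g φ

/-- The natural isomorphism underlying `CohPull.pullOnIso`. -/
def pullOnNat (g : X ⟶ Y) (U : Y.Opens) (U' : X.Opens) (h : U' ≤ g ⁻¹ᵁ U) :
    Scheme.Modules.restrictFunctor U.ι ⋙ Scheme.Modules.pullback (g.resLE U U' h) ⟶
      Scheme.Modules.pullback g ⋙ Scheme.Modules.restrictFunctor U'.ι where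
  app M := (CohPull.pullOnIso g U U' h M).hom
  naturality _ _ φ := pullOnIso_natural g U U' h φ

section

variable {C D D' A B : Type*} [Category C] [Category D] [Category D'] [Category A] [Category B]
  {L : C ⥤ D} {P : D ⥤ D'} {S : D ⥤ A} {S' : D' ⥤ B} {I : A ⥤ B} {R : C ⥤ D'} {G G' : C ⥤ C}

/-- Pasting of three transformations. -/
def pasteNat (th : S ⋙ I ⟶ P ⋙ S') (T : L ⋙ P ⟶ G ⋙ R) (e : G ⟶ 𝟭 C) :
    (L ⋙ S) ⋙ I ⟶ R ⋙ S' where
  app F := th.app (L.obj F) ≫ S'.map (T.app F) ≫ S'.map (R.map (e.app F))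
  naturality F F' φ := by
    have h1 := th.naturality (L.map φ)
    have h2 := congrArg S'.map (T.naturality φ)
    have h3 := congrArg (fun z => S'.map (R.map z)) (e.naturality φ)
    simp only [Functor.map_comp, Functor.comp_map, Functor.id_map] at h1 h2 h3 ⊢
    rw [reassoc_of% h1, reassoc_of% h2, h3]
    simp only [Category.assoc]

theorem comp_mk₀₃ {A' : Type*} [Category A'] [Abelian A'] [HasExt.{u} A'] {P M₀ M₁ M₂ M₃ : A'} {p : ℕ}
    (m : Ext P M₀ p) (a : M₀ ⟶ M₁) (b : M₁ ⟶ M₂) (c : M₂ ⟶ M₃) :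
    ((m.comp (Ext.mk₀ a) (add_zero p)).comp (Ext.mk₀ b) (add_zero p)).comp (Ext.mk₀ c) (add_zero p) =
      m.comp (Ext.mk₀ (a ≫ b ≫ c)) (add_zero p) := by
  rw [Ext.comp_assoc_of_third_deg_zero, Ext.comp_assoc_of_third_deg_zero, Ext.mk₀_comp_mk₀,
    Ext.mk₀_comp_mk₀]

end

variable {U U' : X.Opens}

/-- The natural map of sheaves underlying `CohPull.resLE`. -/
def resNat (h : U' ≤ U) : CohCmp.toAbOn X U ⋙
    CohPull.inv ((Scheme.Hom.resLE (𝟙 X) U U' (by rwa [Scheme.Hom.id_preimage])).base) ⟶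
      CohCmp.toAbOn X U' :=
  pasteNat (thetaNat _) (pullOnNat (𝟙 X) U U' (by rwa [Scheme.Hom.id_preimage]))
    (Scheme.Modules.pullbackId X).hom

theorem resLE_eq (F : X.Modules) (h : U' ≤ U) (p : ℕ) (x : Coh.HHon X F U p) :
    CohPull.resLE F h p x =
      ((Ext.mk₀ (CohPull.oneTo (Scheme.Hom.resLE (𝟙 X) U U'
          (by rwa [Scheme.Hom.id_preimage])).base)).comp
        (Ext.mapExactFunctor (CohPull.inv (Scheme.Hom.resLE (𝟙 X) U U'
          (by rwa [Scheme.Hom.id_preimage])).base) x) (zero_add p)).comp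
        (Ext.mk₀ ((resNat h).app F)) (add_zero p) :=
  comp_mk₀₃ _ _ _ _

theorem mapExact_comp_extClass {A B : Type*} [Category A] [Abelian A] [HasExt.{u} A]
    [Category B] [Abelian B] [HasExt.{u} B] (φ : A ⥤ B) [φ.Additive] [PreservesFiniteLimits φ]
    [PreservesFiniteColimits φ] {S : ShortComplex A} (hS : S.ShortExact) {S' : ShortComplex B}
    (hS' : S'.ShortExact) (f : S.map φ ⟶ S') {P : A} {Q : B} (a : Q ⟶ φ.obj P) (p : ℕ)
    (x : Ext P S.X₃ p) :
    ((Ext.mk₀ a).comp ((x.comp hS.extClass rfl).mapExactFunctor φ) (zero_add (p + 1))).comp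
        (Ext.mk₀ f.τ₁) (add_zero (p + 1)) =
      (((Ext.mk₀ a).comp (x.mapExactFunctor φ) (zero_add p)).comp (Ext.mk₀ f.τ₃) (add_zero p)).comp
        hS'.extClass rfl := by
  rw [Ext.mapExactFunctor_comp, Ext.mapExactFunctor_extClass]
  have hn := ShortComplex.ShortExact.extClass_naturality (hS.map_of_exact φ) hS' f
  rw [Ext.comp_assoc ((Ext.mk₀ a).comp (x.mapExactFunctor φ) (zero_add p)) (Ext.mk₀ f.τ₃) _
      (add_zero p) (zero_add 1) (by omega),
    ← Ext.comp_assoc (Ext.mk₀ a) (x.mapExactFunctor φ) (hS.map_of_exact φ).extClass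
      (zero_add p) rfl (by omega),
    Ext.comp_assoc_of_third_deg_zero, hn]

theorem resLE_extδ {S : ShortComplex X.Modules} (hU : (S.map (CohCmp.toAbOn X U)).ShortExact)
    (hU' : (S.map (CohCmp.toAbOn X U')).ShortExact) (h : U' ≤ U) (p : ℕ)
    (x : Coh.HHon X S.X₃ U p) :
    CohPull.resLE S.X₁ h (p + 1) (CohCmp.extδ hU p x) =
      CohCmp.extδ hU' p (CohPull.resLE S.X₃ h p x) := by
  rw [resLE_eq, resLE_eq]
  exact mapExact_comp_extClass
    (CohPull.inv (Scheme.Hom.resLE (𝟙 X) U U' (by rwa [Scheme.Hom.id_preimage])).base) hU hU'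
    { τ₁ := (resNat h).app S.X₁
      τ₂ := (resNat h).app S.X₂
      τ₃ := (resNat h).app S.X₃
      comm₁₂ := ((resNat h).naturality S.f).symm
      comm₂₃ := ((resNat h).naturality S.g).symm } _ p x

end Groth.Agent.CohCmpLib
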