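import Mathlib
import Groth.Prelude
import Groth.Agent.CohCmpLib.Surj
import Groth.Agent.CohCmpLib.ResDelta
import Groth.Agent.RpushLib.Resolution
import Groth.Agent.CohTopEasy.Basic

/-!
# The comparison map into higher direct images is locally injective
-/

set_option linter.style.haveILetI false
set_option backward.isDefEq.respectTransparency false
set_option backward.isDefEq.respectTransparency.types false

universe u

open CategoryTheory Limits AlgebraicGeometry AlgebraicGeometry.Scheme.Modules TopologicalSpace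
  Opposite CategoryTheory.Abelian

noncomputable section

namespace Groth.Agent.CohCmpLib

variable {X Y : Scheme.{u}}

theorem subsingleton_HHon_injective (I : X.Modules) [Injective I] (U : X.Opens) (p : ℕ) :
    Subsingleton (Coh.HHon X I U (p + 1)) :=
  haveI : TopCat.Sheaf.IsFlasque ((CohCmp.toAbOn X U).obj I) :=
    LocZLib.isFlasque_of_surjective _ fun h =>
      RpushLib.surjective_rM_injective I (U.ι.image_mono h)
  CohTopEasy.subsingleton_H_flasque ((CohCmp.toAbOn X U).obj I) p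

variable (f : X ⟶ Y) [HasInjectiveResolutions X.Modules] {Δ : RDer.DerivedLES (pushforward f)}
  (E : CohCmp.SectCmp f Δ)

instance preservesFiniteLimits_pushforward' : PreservesFiniteLimits (pushforward f) :=
  haveI : PreservesLimitsOfSize.{0, 0} (pushforward f) :=
    (pullbackPushforwardAdjunction f).rightAdjoint_preservesLimits
  inferInstance

theorem resLE_mapH {X : Scheme.{u}} {U U' : X.Opens} {F G : X.Modules} (φ : F ⟶ G) (h : U' ≤ U)
    (p : ℕ) (x : Coh.HHon X F U p) :
    CohPull.resLE G h p (CohPull.mapH ((restrictFunctor U.ι).map φ) p x) =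
      CohPull.mapH ((restrictFunctor U'.ι).map φ) p (CohPull.resLE F h p x) := by
  rw [resLE_eq, resLE_eq]
  show ((Ext.mk₀ _).comp (Ext.mapExactFunctor _ (x.comp (Ext.mk₀ ((CohCmp.toAbOn X U).map φ))
      (add_zero p))) _).comp (Ext.mk₀ ((resNat h).app G)) _ = Ext.comp _ (Ext.mk₀
        ((CohCmp.toAbOn X U').map φ)) (add_zero p)
  rw [Ext.mapExactFunctor_comp, Ext.mapExactFunctor_mk₀]
  simp only [Ext.comp_assoc_of_second_deg_zero, Ext.comp_assoc_of_third_deg_zero,
    Ext.mk₀_comp_mk₀]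
  congr 3
  exact (resNat h).naturality φ

theorem sectH0_mapH {X : Scheme.{u}} {U : X.Opens} {F G : X.Modules} (φ : F ⟶ G)
    (s : F.presheaf.obj (op U)) :
    CohPull.mapH ((restrictFunctor U.ι).map φ) 0 (CohPull.sectH0 F U s) =
      CohPull.sectH0 G U (φ.app U s) := by
  simp only [CohPull.sectH0, AddEquiv.trans_apply]
  refine (Sheaf.H.equiv₀_symm_naturality _ _ _).trans ?_
  congr 1
  exact NatTrans.naturality_apply φ.mapPresheaf (eqToIso U.ι_image_top).op.hom s

theorem bijective_toDerivedZero (F : X.Modules) (V : Y.Opens) :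
    Function.Bijective (((pushforward f).toRightDerivedZero.app F).app V) := by
  haveI : IsIso ((pushforward f).toRightDerivedZero.app F) := inferInstance
  haveI : IsIso (((pushforward f).toRightDerivedZero.app F).mapPresheaf) :=
    inferInstanceAs (IsIso ((Scheme.Modules.toPresheaf Y).map ((pushforward f).toRightDerivedZero.app F)))
  haveI : IsIso (((pushforward f).toRightDerivedZero.app F).mapPresheaf.app (op V)) := inferInstance
  exact ConcreteCategory.bijective_of_isIso
    (((pushforward f).toRightDerivedZero.app F).mapPresheaf.app (op V))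

theorem preservesFiniteLimits_toPre :
    PreservesFiniteLimits (SheafOfModules.toSheaf.{u} Y.ringCatSheaf ⋙
      sheafToPresheaf _ AddCommGrpCat.{u}) :=
  comp_preservesFiniteLimits (SheafOfModules.forget.{u} Y.ringCatSheaf)
    (PresheafOfModules.toPresheaf Y.ringCatSheaf.obj)

theorem injective_app_of_mono {M N : Y.Modules} (φ : M ⟶ N) [Mono φ] (V : Y.Opens) :
    Function.Injective (φ.app V) := by
  haveI := preservesFiniteLimits_toPre (Y := Y)
  let G := (SheafOfModules.toSheaf.{u} Y.ringCatSheaf ⋙ sheafToPresheaf _ _) ⋙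
    (evaluation (Opens Y)ᵒᵖ AddCommGrpCat.{u}).obj (op V)
  haveI : PreservesFiniteLimits G := comp_preservesFiniteLimits _ _
  haveI : Mono (G.map φ) := inferInstance
  exact (AddCommGrpCat.mono_iff_injective (G.map φ)).1 inferInstance

theorem exists_of_δ_eq_zero {S : ShortComplex X.Modules} (hS : S.ShortExact) (p : ℕ) (V : Y.Opens)
    (s : ((Coh.Rpush f p).obj S.X₃).presheaf.obj (op V))
    (hs : (Δ.δ S hS p (p + 1) rfl).app V s = 0) (y : Y) (hy : y ∈ V) :
    ∃ (W : Y.Opens) (h : W ≤ V), y ∈ W ∧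
      ∃ t, ((Coh.Rpush f p).map S.g).app W t =
        ((Coh.Rpush f p).obj S.X₃).presheaf.map (homOfLE h).op s := by
  let S' := ShortComplex.mk _ _ (Δ.comp_δ S hS p (p + 1) rfl)
  have hS' : S'.Exact := Δ.exact₃ S hS p (p + 1) rfl
  haveI : PreservesFiniteLimits (SheafOfModules.toSheaf.{u} Y.ringCatSheaf ⋙
      sheafToPresheaf _ _) :=
    comp_preservesFiniteLimits (SheafOfModules.forget.{u} Y.ringCatSheaf)
      (PresheafOfModules.toPresheaf Y.ringCatSheaf.obj)
  let k : kernel S'.g ⟶ _ := kernel.ι S'.g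
  haveI : Epi (kernel.lift S'.g S'.f S'.zero) :=
    (S'.exact_iff_epi_kernel_lift).1 hS'
  let G := (SheafOfModules.toSheaf.{u} Y.ringCatSheaf ⋙ sheafToPresheaf _ _) ⋙
    (evaluation (Opens Y)ᵒᵖ AddCommGrpCat.{u}).obj (op V)
  haveI : PreservesFiniteLimits G := comp_preservesFiniteLimits _ _
  haveI : G.PreservesZeroMorphisms := Functor.preservesZeroMorphisms_of_preserves_terminal_object
  obtain ⟨z, hz⟩ := (ShortComplex.ab_exact_iff _).1 (ShortComplex.exact_of_f_is_kernel
    (ShortComplex.mk (G.map k) (G.map S'.g)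
      (by rw [← G.map_comp, kernel.condition, G.map_zero]))
    (isLimitForkMapOfIsLimit' G (kernel.condition S'.g) (kernelIsKernel S'.g))) s hs
  obtain ⟨W, h, hyW, t, ht⟩ := exists_local_preimage (kernel.lift S'.g S'.f S'.zero) V z y hy
  refine ⟨W, h, hyW, t, ?_⟩
  have e : S'.f = kernel.lift S'.g S'.f S'.zero ≫ k := (kernel.lift_ι _ _ _).symm
  show S'.f.app W t = _
  rw [e, Scheme.Modules.Hom.comp_app, ConcreteCategory.comp_apply]
  erw [ht]
  refine (NatTrans.naturality_apply k.mapPresheaf (homOfLE h).op z).trans ?_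
  exact congrArg _ hz

/-- A class whose section lifts on a smaller open comes from the source after restriction. -/
theorem exists_resLE_eq_mapH {X : Scheme.{u}} {U U' : X.Opens} {F G : X.Modules} (π : F ⟶ G)
    (h : U' ≤ U) (σ : G.presheaf.obj (op U)) (τ : F.presheaf.obj (op U'))
    (hτ : π.app U' τ = G.presheaf.map (homOfLE h).op σ) :
    ∃ z, CohPull.resLE G h 0 (CohPull.sectH0 G U σ) =
      CohPull.mapH ((restrictFunctor U'.ι).map π) 0 z := by
  let L := restrictFunctor U'.ι
  let R := pushforward U'.ι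
  let adj := restrictAdjunction U'.ι
  have hU : U'.ι ''ᵁ (U'.ι ⁻¹ᵁ U) ≤ U' := by
    rw [Scheme.Hom.image_preimage_eq_opensRange_inf, Scheme.Opens.opensRange_ι]
    exact inf_le_left
  let τ' : (R.obj (L.obj F)).presheaf.obj (op U) := F.presheaf.map (homOfLE hU).op τ
  have e : (R.map (L.map π)).app U τ' = (adj.unit.app G).app U σ := by
    have h1 : (adj.unit.app G).app U σ =
        G.presheaf.map (homOfLE (U'.ι.image_preimage_le U)).op σ := by
      rw [restrictAdjunction_unit_app_app]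
      rfl
    rw [h1]
    show π.app _ (F.presheaf.map (homOfLE hU).op τ) = _
    refine (NatTrans.naturality_apply π.mapPresheaf (homOfLE hU).op τ).trans ?_
    refine (congrArg (G.presheaf.map (homOfLE hU).op) hτ).trans ?_
    rw [← ConcreteCategory.comp_apply, ← Functor.map_comp]
    rfl
  refine ⟨CohPull.mapH (adj.counit.app (L.obj F)) 0 (CohPull.resLE (R.obj (L.obj F)) h 0
    (CohPull.sectH0 _ U τ')), ?_⟩
  have e2 := congrArg (CohPull.resLE (R.obj (L.obj G)) h 0) ((sectH0_mapH (adj.unit.app G) σ).trans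
    ((congrArg (CohPull.sectH0 _ U) e).symm.trans (sectH0_mapH (R.map (L.map π)) τ').symm))
  rw [resLE_mapH] at e2
  erw [resLE_mapH (adj.unit.app G)] at e2
  have e3 := congrArg (CohPull.mapH (adj.counit.app (L.obj G)) 0) e2
  simp only [CohPull.mapH, Sheaf.H.map_apply, Ext.comp_assoc_of_second_deg_zero,
    Ext.mk₀_comp_mk₀, ← Functor.map_comp] at e3 ⊢
  rw [show L.map (adj.unit.app G) ≫ adj.counit.app (L.obj G) = 𝟙 _ from
      adj.left_triangle_components G, show L.map (R.map (L.map π)) ≫ adj.counit.app (L.obj G) =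
      adj.counit.app (L.obj F) ≫ L.map π from adj.counit.naturality (L.map π),
    CategoryTheory.Functor.map_id, Ext.comp_mk₀_id] at e3
  exact e3

theorem exists_comp_extClass {A : Type*} [Category A] [Abelian A] [HasExt.{u} A] {S : ShortComplex A}
    (hS : S.ShortExact) (P : A) (p : ℕ) [Subsingleton (Ext P S.X₂ (p + 1))]
    (x : Ext P S.X₁ (p + 1)) : ∃ w : Ext P S.X₃ p, hS.extClass.postcomp P rfl w = x :=
  Ext.covariant_sequence_exact₁ P hS x (Subsingleton.elim _ _) rfl

theorem comp_g_comp_extClass {A : Type*} [Category A] [Abelian A] [HasExt.{u} A] {S : ShortComplex A}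
    (hS : S.ShortExact) (P : A) (p : ℕ) (z : Ext P S.X₂ p) :
    hS.extClass.postcomp P rfl (z.comp (Ext.mk₀ S.g) (add_zero p)) = 0 := by
  show (z.comp (Ext.mk₀ S.g) (add_zero p)).comp hS.extClass rfl = 0
  rw [Ext.comp_assoc_of_second_deg_zero, hS.comp_extClass, Ext.comp_zero]

/-- Cohomology over an open, as a type of its own. -/
def cH (F : X.Modules) (U : X.Opens) (p : ℕ) : Type u := Coh.HHon X F U p

instance (F : X.Modules) (U : X.Opens) (p : ℕ) : AddCommGroup (cH F U p) :=
  inferInstanceAs (AddCommGroup (Coh.HHon X F U p))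

/-- Restriction. -/
def cRes (F : X.Modules) {U U' : X.Opens} (h : U' ≤ U) (p : ℕ) : cH F U p →+ cH F U' p :=
  CohPull.resLE F h p

/-- Functoriality. -/
def cMap {F G : X.Modules} (φ : F ⟶ G) (U : X.Opens) (p : ℕ) : cH F U p →+ cH G U p :=
  CohPull.mapH ((restrictFunctor U.ι).map φ) p

/-- The connecting map. -/
def cDelta {S : ShortComplex X.Modules} (hS : S.ShortExact) (U : X.Opens) (p : ℕ) :
    cH S.X₃ U p →+ cH S.X₁ U (p + 1) :=
  CohCmp.extδ (shortExact_toAbOn hS U) p

/-- Degree zero classes of sections. -/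
def cSect (F : X.Modules) (U : X.Opens) : F.presheaf.obj (op U) ≃+ cH F U 0 :=
  CohPull.sectH0 F U

/-- The comparison. -/
def cEps (V : Y.Opens) (F : X.Modules) (p : ℕ) :
    cH F (f ⁻¹ᵁ V) p →+ ((Coh.Rpush f p).obj F).presheaf.obj (op V) :=
  E.ε V F p

theorem cRes_cDelta {S : ShortComplex X.Modules} (hS : S.ShortExact) {U U' : X.Opens} (h : U' ≤ U)
    (p : ℕ) (w : cH S.X₃ U p) :
    cRes S.X₁ h (p + 1) (cDelta hS U p w) = cDelta hS U' p (cRes S.X₃ h p w) :=
  resLE_extδ (shortExact_toAbOn hS U) (shortExact_toAbOn hS U') h p w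

theorem cDelta_cMap {U : X.Opens} {S : ShortComplex X.Modules} (hS : S.ShortExact) (p : ℕ)
    (z : cH S.X₂ U p) : cDelta hS U p (cMap S.g U p z) = 0 :=
  comp_g_comp_extClass (shortExact_toAbOn hS U) _ p z

theorem exists_cDelta_eq {S : ShortComplex X.Modules} (hS : S.ShortExact) [Injective S.X₂]
    (U : X.Opens) (p : ℕ) (x : cH S.X₁ U (p + 1)) : ∃ w, cDelta hS U p w = x :=
  @exists_comp_extClass _ _ _ _ _ (shortExact_toAbOn hS U) _ p
    (subsingleton_HHon_injective S.X₂ U p) x

theorem cEps_cDelta {S : ShortComplex X.Modules} (hS : S.ShortExact) (V : Y.Opens) (p : ℕ)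
    (w : cH S.X₃ (f ⁻¹ᵁ V) p) :
    cEps f E V S.X₁ (p + 1) (cDelta hS (f ⁻¹ᵁ V) p w) =
      (Δ.δ S hS p (p + 1) rfl).app V (cEps f E V S.X₃ p w) :=
  E.delta V S hS (shortExact_toAbOn hS (f ⁻¹ᵁ V)) p w

theorem cEps_cSect (V : Y.Opens) (F : X.Modules) (s : F.presheaf.obj (op (f ⁻¹ᵁ V))) :
    cEps f E V F 0 (cSect F (f ⁻¹ᵁ V) s) = ((pushforward f).toRightDerivedZero.app F).app V s :=
  E.zero V F s

theorem exists_cRes_eq_cMap {X : Scheme.{u}} {U U' : X.Opens} {F G : X.Modules} (π : F ⟶ G)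
    (h : U' ≤ U) (σ : G.presheaf.obj (op U)) (τ : F.presheaf.obj (op U'))
    (hτ : π.app U' τ = G.presheaf.map (homOfLE h).op σ) :
    ∃ z, cRes G h 0 (cSect G U σ) = cMap π U' 0 z :=
  exists_resLE_eq_mapH π h σ τ hτ

theorem app_eq_of_toDerivedZero {F G : X.Modules} (π : F ⟶ G) {V W : Y.Opens} (h : W ≤ V)
    (σ : G.presheaf.obj (op (f ⁻¹ᵁ V))) (τ : F.presheaf.obj (op (f ⁻¹ᵁ W)))
    (ht : ((Coh.Rpush f 0).map π).app W (((pushforward f).toRightDerivedZero.app F).app W τ) =
      ((Coh.Rpush f 0).obj G).presheaf.map (homOfLE h).op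
        (((pushforward f).toRightDerivedZero.app G).app V σ)) :
    π.app (f ⁻¹ᵁ W) τ = G.presheaf.map (homOfLE (f.preimage_mono h)).op σ := by
  apply (bijective_toDerivedZero f G W).1
  refine Eq.trans ?_ (Eq.trans ht ?_)
  · exact congrArg (fun m => m.app W τ) ((pushforward f).toRightDerivedZero.naturality π)
  · exact (NatTrans.naturality_apply
      ((pushforward f).toRightDerivedZero.app G).mapPresheaf (homOfLE h).op σ).symm

include E in
theorem exists_cRes_zero {S : ShortComplex X.Modules} (hS : S.ShortExact) (V : Y.Opens)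
    (σ : S.X₃.presheaf.obj (op (f ⁻¹ᵁ V)))
    (hδ : (Δ.δ S hS 0 1 rfl).app V (((pushforward f).toRightDerivedZero.app S.X₃).app V σ) = 0)
    (y : Y) (hy : y ∈ V) :
    ∃ (W : Y.Opens) (hWV : W ≤ V), y ∈ W ∧
      cRes S.X₁ (f.preimage_mono hWV) 1 (cDelta hS (f ⁻¹ᵁ V) 0 (cSect S.X₃ (f ⁻¹ᵁ V) σ)) = 0 := by
  obtain ⟨W, h, hyW, t, ht⟩ := exists_of_δ_eq_zero f hS 0 V _ hδ y hy
  refine ⟨W, h, hyW, ?_⟩
  obtain ⟨τ, rfl⟩ := (bijective_toDerivedZero f S.X₂ W).2 t
  obtain ⟨z, hz⟩ := exists_cRes_eq_cMap S.g (f.preimage_mono h) σ τ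
    (app_eq_of_toDerivedZero f S.g h σ τ ht)
  rw [cRes_cDelta hS, hz, cDelta_cMap hS]

include E in
theorem exists_cRes_eq_zero (F : X.Modules) (p : ℕ) (V : Y.Opens)
    (x : cH F (f ⁻¹ᵁ V) p) (hx : cEps f E V F p x = 0) (y : Y) (hy : y ∈ V) :
    ∃ (W : Y.Opens) (hWV : W ≤ V), y ∈ W ∧ cRes F (f.preimage_mono hWV) p x = 0 := by
  induction p generalizing F V y with
  | zero =>
    refine ⟨V, le_rfl, hy, ?_⟩
    obtain ⟨s, rfl⟩ := (cSect F (f ⁻¹ᵁ V)).surjective x
    rw [cEps_cSect] at hx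
    rw [(bijective_toDerivedZero f F V).1 (hx.trans (map_zero _).symm), map_zero, map_zero]
  | succ p ih =>
    haveI : Injective (embSeq F).X₂ := inferInstanceAs (Injective (Injective.under F))
    obtain ⟨w, rfl⟩ := exists_cDelta_eq (shortExact_embSeq F) (f ⁻¹ᵁ V) p x
    have hδ := (cEps_cDelta f E (shortExact_embSeq F) V p w).symm.trans hx
    cases p with
    | zero =>
      obtain ⟨σ, rfl⟩ := (cSect (embSeq F).X₃ (f ⁻¹ᵁ V)).surjective w
      rw [cEps_cSect] at hδ
      exact exists_cRes_zero f E (shortExact_embSeq F) V σ hδ y hy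
    | succ q =>
      haveI : Mono (Δ.δ (embSeq F) (shortExact_embSeq F) (q + 1) (q + 1 + 1) rfl) :=
        (Δ.exact₃ (embSeq F) (shortExact_embSeq F) (q + 1) (q + 1 + 1) rfl).mono_g
          ((Functor.isZero_rightDerived_obj_injective_succ _ q (Injective.under F)).eq_of_src _ _)
      obtain ⟨W, h, hyW, hw⟩ := ih (embSeq F).X₃ V w
        (injective_app_of_mono _ V (hδ.trans (map_zero _).symm)) y hy
      refine ⟨W, h, hyW, ?_⟩
      rw [cRes_cDelta (shortExact_embSeq F), hw, map_zero]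

include E in
/-- The comparison is locally injective. -/
theorem exists_resLE_eq_zero (F : X.Modules) (p : ℕ) (V : Y.Opens)
    (x : Coh.HHon X F (f ⁻¹ᵁ V) p) (hx : E.ε V F p x = 0) (y : Y) (hy : y ∈ V) :
    ∃ (W : Y.Opens) (hWV : W ≤ V), y ∈ W ∧ CohPull.resLE F (f.preimage_mono hWV) p x = 0 :=
  exists_cRes_eq_zero f E F p V x hx y hy

end Groth.Agent.CohCmpLib
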